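import Cfsg.Prelude.Def_TwoFusion
import Cfsg.Prelude.Def_IsolatedElements
import Cfsg.Prelude.Def_Transfer
import Cfsg.Agent.Lib.SylowNormalInf

/-!
# Strongly closed subgroups of an elementary abelian Sylow subgroup: reduction to simple groups

`Cfsg.Agent.H800.StrClosed.holds`: let `p` be a prime such that (1) isolated elements of an elementary abelian
Sylow `p`-subgroup are central modulo `O_{p'}` (a case of the `Z*_p` statement S1938) and (2) in a finite non-abelian simple group with elementary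
abelian Sylow `p`-subgroup `S` the only strongly closed subgroups of `S` are `1` and `S`. Then for every finite
group `G` with elementary abelian Sylow `p`-subgroup `A` and every strongly closed `B ≤ A` there is a normal
subgroup `N` with `N ⊓ A = B`.
-/

set_option autoImplicit false

universe u

namespace Cfsg.Agent.H800.StrClosed

open Cfsg Subgroup Cfsg.Agent.Lib.SylowNormalInf

open scoped Pointwise commutatorElement

section basic

variable {G : Type u} [Group G] [Finite G] {p : ℕ} [Fact p.Prime]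

/-- The Sylow subgroup `A ⊓ N` of the normal subgroup `N`. -/
noncomputable def infSylow (A : Sylow p G) (N : Subgroup G) [N.Normal] : Sylow p N :=
  (isPGroup_subgroupOf A N).toSylow (not_dvd_relIndex A N)

theorem coe_infSylow (A : Sylow p G) (N : Subgroup G) [N.Normal] :
    (infSylow A N : Subgroup N) = (A : Subgroup G).subgroupOf N := rfl

/-- `B` is the intersection of `A` with a normal subgroup. -/
def Good (A B : Subgroup G) : Prop := ∃ N : Subgroup G, N.Normal ∧ N ⊓ A = B

/-- The assertion for the group `G`. -/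
def Holds (p : ℕ) (G : Type u) [Group G] : Prop :=
  ∀ A : Sylow p G, IsElementaryAbelian p (A : Subgroup G) → ∀ B : Subgroup G, IsStronglyClosed B (A : Subgroup G) →
    Good (A : Subgroup G) B

omit [Finite G] [Fact p.Prime] in
theorem elab_of_injective {H : Type u} [Group H] (f : H →* G) (hf : Function.Injective f) {A : Subgroup G}
    {A' : Subgroup H} (hA : IsElementaryAbelian p A) (h : ∀ x ∈ A', f x ∈ A) : IsElementaryAbelian p A' := by
  refine ⟨?_, fun a ha => hf ?_⟩
  · rw [isMulCommutative_iff]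
    rintro ⟨a, ha⟩ ⟨b, hb⟩
    apply Subtype.ext
    apply hf
    have h1 := (isMulCommutative_iff.1 hA.1) ⟨f a, h a ha⟩ ⟨f b, h b hb⟩
    have h2 := congrArg (fun x : A => (x : G)) h1
    simpa using h2
  · rw [map_pow, map_one]
    exact hA.2 _ (h a ha)

omit [Finite G] [Fact p.Prime] in
theorem elab_map {H : Type u} [Group H] (f : G →* H) {A : Subgroup G} (hA : IsElementaryAbelian p A) :
    IsElementaryAbelian p (A.map f) := by
  refine ⟨?_, ?_⟩
  · rw [isMulCommutative_iff]
    rintro ⟨_, a, ha, rfl⟩ ⟨_, b, hb, rfl⟩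
    apply Subtype.ext
    have h1 := (isMulCommutative_iff.1 hA.1) ⟨a, ha⟩ ⟨b, hb⟩
    have h2 : a * b = b * a := congrArg (fun x : A => (x : G)) h1
    show f a * f b = f b * f a
    rw [← map_mul, h2, map_mul]
  · rintro _ ⟨a, ha, rfl⟩
    rw [← map_pow, hA.2 a ha, map_one]

/-- Passage to a quotient by a normal `M` with `M ⊓ A ≤ B`. -/
theorem quot_step (A : Sylow p G) (hA : IsElementaryAbelian p (A : Subgroup G)) {B : Subgroup G}
    (hB : IsStronglyClosed B (A : Subgroup G)) (M : Subgroup G) [M.Normal] (hM : M ⊓ (A : Subgroup G) ≤ B)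
    (hP : Holds p (G ⧸ M)) : Good (A : Subgroup G) B := by
  have hsurj := QuotientGroup.mk'_surjective M
  have hco := Sylow.coe_mapSurjective hsurj A
  have key : ∀ x ∈ B, ∀ g : G, QuotientGroup.mk' M (g * x * g⁻¹) ∈ (A : Subgroup G).map (QuotientGroup.mk' M) →
      ∃ m ∈ M, (m * g) * x * (m * g)⁻¹ ∈ B := by
    intro x hx g hg
    obtain ⟨a, ha, hag⟩ := hg
    have hxY : g * x * g⁻¹ ∈ (M ⊔ (A : Subgroup G)) := by
      rw [mem_sup_of_normal_left]
      have h1 : (QuotientGroup.mk' M) (g * x * g⁻¹ * a⁻¹) = 1 := by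
        rw [map_mul, map_inv, hag]
        exact mul_inv_cancel _
      rw [← MonoidHom.mem_ker, QuotientGroup.ker_mk'] at h1
      exact ⟨_, h1, a, ha, by group⟩
    have hAY : (A : Subgroup G) ≤ M ⊔ (A : Subgroup G) := le_sup_right
    let Y := M ⊔ (A : Subgroup G)
    let AY : Sylow p Y := A.subtype hAY
    have hpx : IsPGroup p (zpowers (⟨g * x * g⁻¹, hxY⟩ : Y)) := by
      have h1 : IsPGroup p ((MulAut.conj g • (A : Subgroup G)).subgroupOf Y) :=
        ((A.isPGroup'.map (MulAut.conj g).toMonoidHom).comap_of_injective Y.subtype Y.subtype_injective)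
      refine h1.to_le ?_
      rw [zpowers_le]
      show g * x * g⁻¹ ∈ MulAut.conj g • (A : Subgroup G)
      exact Subgroup.smul_mem_pointwise_smul x (MulAut.conj g) _ (hB.1 hx)
    obtain ⟨T, hT⟩ := hpx.exists_le_sylow
    obtain ⟨y, hy⟩ := MulAction.exists_smul_eq Y T AY
    have h2 : y * (⟨g * x * g⁻¹, hxY⟩ : Y) * y⁻¹ ∈ (AY : Subgroup Y) := by
      rw [← hy]
      exact Subgroup.smul_mem_pointwise_smul _ (MulAut.conj y) (T : Subgroup Y) (hT (mem_zpowers _))
    have h3 : (y : G) * (g * x * g⁻¹) * (y : G)⁻¹ ∈ (A : Subgroup G) := h2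
    have hyY := y.2
    have hyY' : (y : G)⁻¹ ∈ M ⊔ (A : Subgroup G) := inv_mem hyY
    rw [mem_sup_of_normal_left] at hyY'
    obtain ⟨m, hm, a', ha', hma⟩ := hyY'
    have hyy : (y : G) = a'⁻¹ * m⁻¹ := by
      rw [← mul_inv_rev, hma, inv_inv]
    refine ⟨m⁻¹, inv_mem hm, ?_⟩
    have h4 : (m⁻¹ * g) * x * (m⁻¹ * g)⁻¹ ∈ (A : Subgroup G) := by
      have h5 : (m⁻¹ * g) * x * (m⁻¹ * g)⁻¹ = a' * ((y : G) * (g * x * g⁻¹) * (y : G)⁻¹) * a'⁻¹ := by
        rw [hyy]; group
      rw [h5]
      exact mul_mem (mul_mem ha' h3) (inv_mem ha')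
    exact hB.2 x hx _ h4
  obtain ⟨N, hN, hNA⟩ := hP (Sylow.mapSurjective hsurj A) (by rw [hco]; exact elab_map _ hA)
    (B.map (QuotientGroup.mk' M)) (by
      rw [hco]
      refine ⟨Subgroup.map_mono hB.1, ?_⟩
      rintro _ ⟨x, hx, rfl⟩ gbar hg
      obtain ⟨g, rfl⟩ := hsurj gbar
      rw [← map_inv, ← map_mul, ← map_mul] at hg ⊢
      obtain ⟨m, hm, h1⟩ := key x hx g hg
      refine ⟨_, h1, ?_⟩
      have h2 : (QuotientGroup.mk' M) m = 1 := by
        rw [← MonoidHom.mem_ker, QuotientGroup.ker_mk']; exact hm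
      simp only [map_mul, map_inv, h2, one_mul, mul_inv_rev, inv_one, mul_one])
  refine ⟨N.comap (QuotientGroup.mk' M), inferInstance, ?_⟩
  rw [hco] at hNA
  apply le_antisymm
  · rintro x ⟨hx1, hx2⟩
    have h1 : (QuotientGroup.mk' M) x ∈ B.map (QuotientGroup.mk' M) := by
      rw [← hNA]
      exact ⟨hx1, ⟨x, hx2, rfl⟩⟩
    obtain ⟨b, hb, hbx⟩ := h1
    have h2 : b⁻¹ * x ∈ M := by
      rw [← QuotientGroup.ker_mk' M, MonoidHom.mem_ker, map_mul, map_inv, hbx]
      exact inv_mul_cancel _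
    have h3 : b⁻¹ * x ∈ B := hM ⟨h2, (A : Subgroup G).mul_mem ((A : Subgroup G).inv_mem (hB.1 hb)) hx2⟩
    have h4 := mul_mem hb h3
    rwa [mul_inv_cancel_left] at h4
  · intro x hx
    refine ⟨?_, hB.1 hx⟩
    have h1 : (QuotientGroup.mk' M) x ∈ B.map (QuotientGroup.mk' M) := ⟨x, hx, rfl⟩
    rw [← hNA] at h1
    exact h1.1

/-- Passage to a normal subgroup `H`: `B ⊓ H` is cut out of `A` by a normal subgroup of `G`. -/
theorem sub_step (A : Sylow p G) (hA : IsElementaryAbelian p (A : Subgroup G)) {B : Subgroup G}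
    (hB : IsStronglyClosed B (A : Subgroup G)) (H : Subgroup G) [H.Normal] (hP : Holds p H) :
    ∃ N : Subgroup G, N.Normal ∧ N ≤ H ∧ N ⊓ (A : Subgroup G) = B ⊓ H := by
  obtain ⟨K, hK, hKA⟩ := hP (infSylow A H)
    (elab_of_injective H.subtype H.subtype_injective hA fun x hx => hx) (B.subgroupOf H) (by
      refine ⟨fun x hx => hB.1 hx, fun x hx g hg => ?_⟩
      exact hB.2 x hx g hg)
  rw [coe_infSylow] at hKA
  have hNK : normalClosure ((B ⊓ H : Subgroup G) : Set G) ≤ K.map H.subtype := by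
    unfold Subgroup.normalClosure
    rw [closure_le]
    intro y hy
    rw [Group.mem_conjugatesOfSet_iff] at hy
    obtain ⟨b, ⟨hbB, hbH⟩, hby⟩ := hy
    rw [isConj_iff] at hby
    obtain ⟨g, rfl⟩ := hby
    have hg : g ∈ H ⊔ normalizer (((A : Subgroup G) ⊓ H : Subgroup G) : Set G) := by
      rw [sup_comm, normalizer_inf_sup_eq_top A H]; exact mem_top _
    rw [mem_sup_of_normal_left] at hg
    obtain ⟨h, hh, n, hn, rfl⟩ := hg
    have h1 : n * b * n⁻¹ ∈ ((A : Subgroup G) ⊓ H : Subgroup G) := (hn b).1 ⟨hB.1 hbB, hbH⟩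
    have h2 : n * b * n⁻¹ ∈ B := hB.2 b hbB n h1.1
    have h3 : (⟨n * b * n⁻¹, h1.2⟩ : H) ∈ K := by
      have h4 : (⟨n * b * n⁻¹, h1.2⟩ : H) ∈ B.subgroupOf H := h2
      rw [← hKA] at h4
      exact h4.1
    refine ⟨_, hK.conj_mem _ h3 ⟨h, hh⟩, ?_⟩
    show h * (n * b * n⁻¹) * h⁻¹ = h * n * b * (h * n)⁻¹
    group
  refine ⟨normalClosure ((B ⊓ H : Subgroup G) : Set G), inferInstance, ?_, ?_⟩
  · exact normalClosure_le_normal fun x hx => hx.2
  · apply le_antisymm
    · rintro x ⟨hx1, hx2⟩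
      obtain ⟨y, hy, rfl⟩ := hNK hx1
      have h1 : y ∈ B.subgroupOf H := by
        rw [← hKA]
        exact ⟨hy, hx2⟩
      exact ⟨h1, y.2⟩
    · intro x hx
      exact ⟨subset_normalClosure hx, hB.1 hx.1⟩

/-- In a perfect group an abelian Sylow subgroup meets the centre trivially. -/
theorem central_eq_one (A : Sylow p G) (hA : IsMulCommutative (A : Subgroup G)) (hG : commutator G = ⊤) {z : G}
    (hz : ∀ g : G, g * z = z * g) (hzA : z ∈ (A : Subgroup G)) : z = 1 := by
  let _ : CommGroup (A : Subgroup G) :=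
    { (inferInstance : Group (A : Subgroup G)) with mul_comm := isMulCommutative_iff.1 hA }
  have key : ∀ (k : ℕ) (g₀ : G), g₀⁻¹ * z ^ k * g₀ ∈ (A : Subgroup G) → g₀⁻¹ * z ^ k * g₀ = z ^ k := by
    intro k g₀ _
    have h1 : Commute g₀ (z ^ k) := (show Commute g₀ z from hz g₀).pow_right k
    rw [mul_assoc, ← h1.eq, inv_mul_cancel_left]
  have h1 := MonoidHom.transfer_eq_pow (MonoidHom.id (A : Subgroup G)) z key
  have h2 : MonoidHom.transfer (MonoidHom.id (A : Subgroup G)) z = 1 := by
    have h3 : commutator G ≤ (MonoidHom.transfer (MonoidHom.id (A : Subgroup G))).ker :=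
      Abelianization.commutator_subset_ker _
    rw [hG] at h3
    exact h3 (mem_top z)
  rw [h2] at h1
  have h3 : z ^ (A : Subgroup G).index = 1 := by
    have := congrArg (fun x : (A : Subgroup G) => (x : G)) h1
    exact this.symm
  obtain ⟨k, hk⟩ := (IsPGroup.iff_orderOf.1 A.isPGroup') ⟨z, hzA⟩
  rw [Subgroup.orderOf_mk] at hk
  have h4 : orderOf z ∣ (A : Subgroup G).index := orderOf_dvd_of_pow_eq_one h3
  have h5 : Nat.Coprime (p ^ k) (A : Subgroup G).index :=
    Nat.Coprime.pow_left k ((Nat.Prime.coprime_iff_not_dvd Fact.out).2 A.not_dvd_index)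
  rw [hk] at h4
  have h6 : p ^ k = 1 := Nat.Coprime.eq_one_of_dvd h5 h4
  rw [h6] at hk
  exact orderOf_eq_one_iff.1 hk

end basic

/-- **Strongly closed subgroups of elementary abelian Sylow subgroups, reduction to the `Z*_p` statement and to
simple groups.** -/
theorem holds (p : ℕ) [Fact p.Prime] (N₀ : ℕ)
    (hZ : ∀ (G : Type u) [Group G] [Finite G] (S : Sylow p G), IsElementaryAbelian p (S : Subgroup G) →
      ∀ x ∈ (S : Subgroup G), (∀ g : G, g * x * g⁻¹ ∈ (S : Subgroup G) → g * x * g⁻¹ = x) → InZStar p x)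
    (hI : ∀ (G : Type u) [Group G] [Finite G] [IsSimpleGroup G] (S : Sylow p G), Nat.card G ≤ N₀ → commutator G = ⊤ →
      IsElementaryAbelian p (S : Subgroup G) → ∀ B : Subgroup G, IsStronglyClosed B (S : Subgroup G) →
        B = ⊥ ∨ B = (S : Subgroup G)) (n : ℕ) :
    ∀ (G : Type u) [Group G] [Finite G], Nat.card G = n → n ≤ N₀ → Holds p G := by
  induction n using Nat.strong_induction_on with
  | _ n ih =>
  intro G _ _ hn hnN A hA B hB
  by_contra hbad
  have hsub : ∀ H : Subgroup G, H ≠ ⊤ → Holds p H := by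
    intro H hH
    have hlt : Nat.card H < n := by
      rw [← hn]
      exact lt_of_le_of_ne (Subgroup.card_le_card_group H) fun h => hH (Subgroup.eq_top_of_card_eq H h)
    exact ih (Nat.card H) hlt H rfl (hlt.le.trans hnN)
  have hquo : ∀ M : Subgroup G, ∀ _ : M.Normal, M ≠ ⊥ → Holds p (G ⧸ M) := by
    intro M _ hM
    have hlt : Nat.card (G ⧸ M) < n := by
      rw [← hn, Subgroup.card_eq_card_quotient_mul_card_subgroup M]
      have h1 : 1 < Nat.card M := (Subgroup.one_lt_card_iff_ne_bot M).2 hM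
      have h2 : 0 < Nat.card (G ⧸ M) := Nat.card_pos
      exact lt_mul_of_one_lt_right h2 h1
    exact ih (Nat.card (G ⧸ M)) hlt _ rfl (hlt.le.trans hnN)
  -- no nontrivial normal subgroup meets `A` inside `B`
  have h1 : ∀ M : Subgroup G, M.Normal → M ⊓ (A : Subgroup G) ≤ B → M = ⊥ := by
    intro M hMn hM
    by_contra hne
    exact hbad (quot_step A hA hB M hM (hquo M hMn hne))
  -- `B` meets proper normal subgroups trivially
  have h2 : ∀ H : Subgroup G, H.Normal → H ≠ ⊤ → B ⊓ H = ⊥ := by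
    intro H hHn hH
    obtain ⟨N, hN, hNH, hNA⟩ := sub_step A hA hB H (hsub H hH)
    have h3 : N = ⊥ := h1 N hN (by rw [hNA]; exact inf_le_left)
    rw [← hNA, h3, bot_inf_eq]
  have hcore : pPrimeCore p G = ⊥ := by
    unfold pPrimeCore
    rw [sSup_eq_bot]
    rintro N ⟨hN, hc⟩
    refine h1 N hN ?_
    have h3 : N ⊓ (A : Subgroup G) = ⊥ := by
      rw [Subgroup.eq_bot_iff_forall]
      rintro x ⟨hxN, hxA⟩
      obtain ⟨k, hk⟩ := (IsPGroup.iff_orderOf.1 A.isPGroup') ⟨x, hxA⟩
      rw [Subgroup.orderOf_mk] at hk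
      have h4 : orderOf x ∣ Nat.card N := by
        rw [← Subgroup.orderOf_mk x hxN]
        exact orderOf_dvd_natCard _
      have h5 : Nat.Coprime (p ^ k) (Nat.card N) := Nat.Coprime.pow_left k hc.symm
      rw [hk] at h4
      have h6 : p ^ k = 1 := Nat.Coprime.eq_one_of_dvd h5 h4
      rw [h6] at hk
      exact orderOf_eq_one_iff.1 hk
    rw [h3]; exact bot_le
  have hBne : B ≠ ⊥ := by
    rintro rfl
    exact hbad ⟨⊥, inferInstance, by simp⟩
  -- `G` is perfect
  have hperf : commutator G = ⊤ := by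
    by_contra hne
    have h3 := h2 (commutator G) inferInstance hne
    have hcen : ∀ b ∈ B, ∀ g : G, g * b * g⁻¹ = b := by
      intro b hb g
      have hiso : ∀ g : G, g * b * g⁻¹ ∈ (A : Subgroup G) → g * b * g⁻¹ = b := by
        intro g hg
        have h4 : g * b * g⁻¹ ∈ B := hB.2 b hb g hg
        have h5 : g * b * g⁻¹ * b⁻¹ ∈ B ⊓ commutator G := by
          refine ⟨B.mul_mem h4 (B.inv_mem hb), ?_⟩
          have h6 : ⁅g, b⁆ ∈ commutator G := Subgroup.commutator_mem_commutator (mem_top g) (mem_top b)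
          rwa [commutatorElement_def] at h6
        rw [h3, mem_bot] at h5
        exact mul_inv_eq_one.1 h5
      have h7 := hZ G A hA b (hB.1 hb) hiso g
      rw [hcore, mem_bot] at h7
      exact mul_inv_eq_one.1 h7
    refine hBne (h1 B ⟨fun b hb g => ?_⟩ inf_le_left)
    rw [hcen b hb g]; exact hb
  -- `G` is not simple
  by_cases hsimple : IsSimpleGroup G
  · rcases hI G A (hn.le.trans hnN) hperf hA B hB with h | h
    · exact hBne h
    · exact hbad ⟨⊤, inferInstance, by rw [h, top_inf_eq]⟩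
  have hnt : Nontrivial G := by
    obtain ⟨x, hx⟩ := Subgroup.ne_bot_iff_exists_ne_one.1 hBne
    exact ⟨⟨(x : G), 1, fun h => hx (Subtype.ext h)⟩⟩
  obtain ⟨M, hMn, hMb, hMt⟩ : ∃ M : Subgroup G, M.Normal ∧ M ≠ ⊥ ∧ M ≠ ⊤ := by
    by_contra hcon
    apply hsimple
    refine ⟨fun H hH => ?_⟩
    by_cases hb : H = ⊥
    · exact Or.inl hb
    · by_contra hne
      exact hcon ⟨H, hH, hb, fun h => hne (Or.inr h)⟩
  have hBM := h2 M hMn hMt
  -- the subgroup `Y = M A` is proper
  have hY : M ⊔ (A : Subgroup G) ≠ ⊤ := by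
    intro hY
    apply hMt
    rw [← top_le_iff, ← hperf]
    rw [_root_.commutator_def, Subgroup.commutator_le]
    intro x _ y _
    have hx : x ∈ M ⊔ (A : Subgroup G) := by rw [hY]; exact mem_top x
    have hy : y ∈ M ⊔ (A : Subgroup G) := by rw [hY]; exact mem_top y
    rw [mem_sup_of_normal_left] at hx hy
    obtain ⟨m, hm, a, ha, rfl⟩ := hx
    obtain ⟨m', hm', a', ha', rfl⟩ := hy
    rw [← QuotientGroup.ker_mk' M, MonoidHom.mem_ker] at hm hm' ⊢
    have h4 := congrArg (fun x : (A : Subgroup G) => (x : G)) ((isMulCommutative_iff.1 hA.1) ⟨a, ha⟩ ⟨a', ha'⟩)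
    have h5 : a * a' = a' * a := h4
    rw [commutatorElement_def]
    simp only [map_mul, map_inv, hm, hm', one_mul]
    rw [← map_mul, h5, map_mul]
    group
  -- `M` and `B` commute
  have hcomm : ∀ m ∈ M, ∀ b ∈ B, m * b = b * m := by
    have hBY : IsStronglyClosed (B.subgroupOf (M ⊔ (A : Subgroup G)))
        ((A : Subgroup G).subgroupOf (M ⊔ (A : Subgroup G))) := by
      refine ⟨fun x hx => hB.1 hx, fun x hx g hg => ?_⟩
      exact hB.2 x hx g hg
    obtain ⟨N, hN, hNA⟩ := hsub _ hY (A.subtype le_sup_right)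
      (elab_of_injective _ (Subgroup.subtype_injective _) hA fun x hx => hx) _ hBY
    rw [Sylow.coe_subtype] at hNA
    -- the intersection `M ∩ N` is a `p'`-group
    let Y := M ⊔ (A : Subgroup G)
    have hMY : M ≤ Y := le_sup_left
    have hBYle : B ≤ Y := hB.1.trans le_sup_right
    -- `K = M ∩ N` as a subgroup of `G`
    have hKn : ∀ x ∈ (N ⊓ M.subgroupOf Y).map Y.subtype, ∀ y ∈ M, y * x * y⁻¹ ∈ (N ⊓ M.subgroupOf Y).map Y.subtype := by
      rintro _ ⟨x, ⟨hxN, hxM⟩, rfl⟩ y hy
      refine ⟨⟨y, hMY hy⟩ * x * ⟨y, hMY hy⟩⁻¹, ⟨hN.conj_mem x hxN _, ?_⟩, rfl⟩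
      show y * (x : G) * y⁻¹ ∈ M
      exact mul_mem (mul_mem hy hxM) (inv_mem hy)
    have hKA : ∀ x ∈ (N ⊓ M.subgroupOf Y), x ∈ (A : Subgroup G).subgroupOf Y → x = 1 := by
      intro x hx hxA
      have h4 : x ∈ B.subgroupOf Y := by
        rw [← hNA]; exact ⟨hx.1, hxA⟩
      have h5 : (x : G) ∈ B ⊓ M := ⟨h4, hx.2⟩
      rw [hBM, mem_bot] at h5
      exact Subtype.ext h5
    have hcop : Nat.Coprime (Nat.card (N ⊓ M.subgroupOf Y : Subgroup Y)) p := by
      rw [Nat.coprime_comm, Nat.Prime.coprime_iff_not_dvd Fact.out]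
      intro hdvd
      have hMYn : (M.subgroupOf Y).Normal := inferInstance
      obtain ⟨x, hx⟩ := exists_prime_orderOf_dvd_card' p hdvd
      have hxp : IsPGroup p (zpowers (x : Y)) := by
        refine IsPGroup.of_card (n := 1) ?_
        rw [Nat.card_zpowers, Subgroup.orderOf_coe, hx, pow_one]
      obtain ⟨T, hT⟩ := hxp.exists_le_sylow
      obtain ⟨y, hy⟩ := MulAction.exists_smul_eq Y T (A.subtype (le_sup_right : (A : Subgroup G) ≤ Y))
      have h6 : y * (x : Y) * y⁻¹ ∈ ((A.subtype (le_sup_right : (A : Subgroup G) ≤ Y) : Sylow p Y) : Subgroup Y) := by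
        rw [← hy]
        exact Subgroup.smul_mem_pointwise_smul _ (MulAut.conj y) (T : Subgroup Y) (hT (mem_zpowers _))
      rw [Sylow.coe_subtype] at h6
      have h7 : y * (x : Y) * y⁻¹ = 1 :=
        hKA _ ⟨hN.conj_mem _ x.2.1 y, hMYn.conj_mem _ x.2.2 y⟩ h6
      have h8 : (x : Y) = 1 := by
        rw [mul_inv_eq_one] at h7
        exact mul_left_cancel (h7.trans (mul_one y).symm)
      have h9 : orderOf x = 1 := orderOf_eq_one_iff.2 (Subtype.ext h8)
      rw [hx] at h9
      exact (Nat.Prime.one_lt Fact.out).ne' h9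
    -- so it lies in `O_{p'}(M) ≤ O_{p'}(G) = 1`
    have hK1 : (N ⊓ M.subgroupOf Y).map Y.subtype = ⊥ := by
      set K := (N ⊓ M.subgroupOf Y).map Y.subtype with hK
      have hKM : K ≤ M := by
        rintro _ ⟨x, hx, rfl⟩
        exact hx.2
      have hKcard : Nat.Coprime (Nat.card K) p := by
        have h4 : Nat.card K = Nat.card (N ⊓ M.subgroupOf Y : Subgroup Y) :=
          Nat.card_congr ((N ⊓ M.subgroupOf Y).equivMapOfInjective _ Y.subtype_injective).symm.toEquiv
        rw [h4]; exact hcop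
      -- the normal closure of `K` in `G` meets `A` trivially: use the family of normal `p'`-subgroups of `M`
      have h5 : K.subgroupOf M ≤ pPrimeCore p M := by
        refine le_sSup ⟨⟨fun x hx y => hKn x hx y y.2⟩, ?_⟩
        rw [Nat.card_congr (Subgroup.subgroupOfEquivOfLe hKM).toEquiv]
        exact hKcard
      have hch : (pPrimeCore p M).Characteristic := by
        rw [Subgroup.characteristic_iff_map_le]
        intro φ
        unfold pPrimeCore
        rw [Subgroup.map_le_iff_le_comap]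
        refine sSup_le ?_
        rintro L ⟨hL, hLc⟩
        rw [← Subgroup.map_le_iff_le_comap]
        refine le_sSup ⟨hL.map _ φ.surjective, ?_⟩
        rw [Nat.card_congr (L.equivMapOfInjective φ.toMonoidHom φ.injective).symm.toEquiv]
        exact hLc
      have h6 : ((pPrimeCore p M).map M.subtype).Normal := inferInstance
      have h7 : Nat.Coprime (Nat.card (pPrimeCore p M)) p := by
        have hall : ∀ (s : Finset (Subgroup M)), (∀ L ∈ s, L.Normal ∧ (Nat.card L).Coprime p) →
            (s.sup id).Normal ∧ (Nat.card (s.sup id : Subgroup M)).Coprime p := by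
          classical
          intro s
          induction s using Finset.induction_on with
          | empty =>
            intro _
            refine ⟨?_, ?_⟩
            · rw [Finset.sup_empty]; infer_instance
            · rw [Finset.sup_empty, Subgroup.card_bot]; exact Nat.coprime_one_left p
          | insert L s _ ihs =>
            intro hs
            obtain ⟨h8, h9⟩ := ihs fun L hL => hs L (Finset.mem_insert_of_mem hL)
            obtain ⟨h10, h11⟩ := hs L (Finset.mem_insert_self L s)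
            rw [Finset.sup_insert, id]
            refine ⟨Subgroup.sup_normal _ _, ?_⟩
            have h12 : Nat.card (L ⊔ s.sup id : Subgroup M) ∣ Nat.card L * Nat.card (s.sup id : Subgroup M) := by
              rw [← card_mul_relIndex L (L ⊔ s.sup id) le_sup_left, relIndex_sup_of_normal]
              exact Nat.mul_dvd_mul_left _ (Subgroup.relIndex_dvd_card _ _)
            exact Nat.Coprime.coprime_dvd_left h12 (Nat.Coprime.mul_left h11 h9)
        classical
        have hfin : {L : Subgroup M | L.Normal ∧ (Nat.card L).Coprime p}.Finite := Set.toFinite _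
        have h8 := hall hfin.toFinset fun L hL => by
          rw [Set.Finite.mem_toFinset] at hL
          exact hL
        have h9 : hfin.toFinset.sup id = pPrimeCore p M := by
          unfold pPrimeCore
          rw [Finset.sup_id_eq_sSup, Set.Finite.coe_toFinset]
        rw [h9] at h8
        exact h8.2
      have h8 : (pPrimeCore p M).map M.subtype ≤ pPrimeCore p G := by
        refine le_sSup ⟨h6, ?_⟩
        rw [Nat.card_congr ((pPrimeCore p M).equivMapOfInjective _ M.subtype_injective).symm.toEquiv]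
        exact h7
      rw [hcore, le_bot_iff] at h8
      rw [Subgroup.eq_bot_iff_forall]
      intro x hx
      have h9 : x ∈ (pPrimeCore p M).map M.subtype := ⟨⟨x, hKM hx⟩, h5 hx, rfl⟩
      rw [h8, mem_bot] at h9
      exact h9
    intro m hm b hb
    have hbN : (⟨b, hBYle hb⟩ : Y) ∈ N := by
      have h4 : (⟨b, hBYle hb⟩ : Y) ∈ B.subgroupOf Y := hb
      rw [← hNA] at h4
      exact h4.1
    have h4 : m * b * m⁻¹ * b⁻¹ ∈ (N ⊓ M.subgroupOf Y).map Y.subtype := by
      refine ⟨⟨m, hMY hm⟩ * ⟨b, hBYle hb⟩ * ⟨m, hMY hm⟩⁻¹ * ⟨b, hBYle hb⟩⁻¹, ⟨?_, ?_⟩, rfl⟩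
      · exact N.mul_mem (hN.conj_mem _ hbN _) (N.inv_mem hbN)
      · show m * b * m⁻¹ * b⁻¹ ∈ M
        have h5 : m * b * m⁻¹ * b⁻¹ = m * (b * m⁻¹ * b⁻¹) := by group
        rw [h5]
        exact mul_mem hm (hMn.conj_mem _ (inv_mem hm) b)
    rw [hK1, mem_bot] at h4
    rw [mul_inv_eq_one, mul_inv_eq_iff_eq_mul] at h4
    exact h4
  -- so `M` is central
  have hMcen : centralizer (M : Set G) = ⊤ := by
    by_contra hne
    have h4 := h2 (centralizer (M : Set G)) inferInstance hne
    apply hBne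
    rw [← le_bot_iff, ← h4]
    refine le_inf le_rfl fun b hb => ?_
    rw [mem_centralizer_iff]
    intro m hm
    exact hcomm m hm b hb
  -- a central element of order `p`
  have hpM : p ∣ Nat.card M := by
    by_contra hnd
    apply hMb
    rw [← le_bot_iff, ← hcore]
    exact le_sSup ⟨hMn, by rw [Nat.coprime_comm, Nat.Prime.coprime_iff_not_dvd Fact.out]; exact hnd⟩
  obtain ⟨z, hz⟩ := exists_prime_orderOf_dvd_card' p hpM
  have hzc : ∀ g : G, g * (z : G) = (z : G) * g := by
    intro g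
    have h4 : g ∈ centralizer (M : Set G) := by rw [hMcen]; exact mem_top g
    rw [mem_centralizer_iff] at h4
    exact (h4 z z.2).symm
  have hzp : IsPGroup p (zpowers (z : G)) := by
    refine IsPGroup.of_card (n := 1) ?_
    rw [Nat.card_zpowers, Subgroup.orderOf_coe, hz, pow_one]
  obtain ⟨T, hT⟩ := hzp.exists_le_sylow
  obtain ⟨y, hy⟩ := MulAction.exists_smul_eq G T A
  have h6 : y * (z : G) * y⁻¹ ∈ (A : Subgroup G) := by
    rw [← hy]
    exact Subgroup.smul_mem_pointwise_smul _ (MulAut.conj y) (T : Subgroup G) (hT (mem_zpowers _))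
  rw [hzc, mul_inv_cancel_right] at h6
  have h7 := central_eq_one A hA.1 hperf hzc h6
  have h9 : orderOf z = 1 := orderOf_eq_one_iff.2 (Subtype.ext h7)
  rw [hz] at h9
  exact (Nat.Prime.one_lt Fact.out).ne' h9

/-- The form of statement S5325, for groups of bounded order. -/
theorem exists_normal_le {p : ℕ} [Fact p.Prime] (N₀ : ℕ)
    (hZ : ∀ (G : Type u) [Group G] [Finite G] (S : Sylow p G), IsElementaryAbelian p (S : Subgroup G) →
      ∀ x ∈ (S : Subgroup G), (∀ g : G, g * x * g⁻¹ ∈ (S : Subgroup G) → g * x * g⁻¹ = x) → InZStar p x)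
    (hI : ∀ (G : Type u) [Group G] [Finite G] [IsSimpleGroup G] (S : Sylow p G), Nat.card G ≤ N₀ → commutator G = ⊤ →
      IsElementaryAbelian p (S : Subgroup G) → ∀ B : Subgroup G, IsStronglyClosed B (S : Subgroup G) →
        B = ⊥ ∨ B = (S : Subgroup G))
    {G : Type u} [Group G] [Finite G] (hG : Nat.card G ≤ N₀) (A : Sylow p G)
    (hA : IsElementaryAbelian p (A : Subgroup G)) (B : Subgroup G) (hB : IsStronglyClosed B (A : Subgroup G)) :
    ∃ N : Subgroup G, N.Normal ∧ N ⊓ (A : Subgroup G) = B :=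
  holds p N₀ hZ hI _ G rfl hG A hA B hB

/-- The form of statement S5325. -/
theorem exists_normal {p : ℕ} [Fact p.Prime]
    (hZ : ∀ (G : Type u) [Group G] [Finite G] (S : Sylow p G), IsElementaryAbelian p (S : Subgroup G) →
      ∀ x ∈ (S : Subgroup G), (∀ g : G, g * x * g⁻¹ ∈ (S : Subgroup G) → g * x * g⁻¹ = x) → InZStar p x)
    (hI : ∀ (G : Type u) [Group G] [Finite G] [IsSimpleGroup G] (S : Sylow p G), commutator G = ⊤ →
      IsElementaryAbelian p (S : Subgroup G) → ∀ B : Subgroup G, IsStronglyClosed B (S : Subgroup G) →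
        B = ⊥ ∨ B = (S : Subgroup G))
    {G : Type u} [Group G] [Finite G] (A : Sylow p G) (hA : IsElementaryAbelian p (A : Subgroup G))
    (B : Subgroup G) (hB : IsStronglyClosed B (A : Subgroup G)) :
    ∃ N : Subgroup G, N.Normal ∧ B ≤ N ∧ ¬ p ∣ B.relIndex N := by
  obtain ⟨N, hN, hNA⟩ := exists_normal_le (Nat.card G) hZ (fun K _ _ _ S _ => hI K S) le_rfl A hA B hB
  refine ⟨N, hN, ?_, ?_⟩
  · rw [← hNA]; exact inf_le_left
  · rw [← hNA, inf_comm, Subgroup.inf_relIndex_right]
    exact not_dvd_relIndex A N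

end Cfsg.Agent.H800.StrClosed
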