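import Cfsg.Agent.H334.ABRow
import Cfsg.Agent.H800.MT.Final
import Cfsg.Agent.H800.StrClosed

/-!
# Strongly closed subgroups of elementary abelian Sylow subgroups: assembly

From the classification (`Known`), the `Z*_p`-theorem (`ZRow`) and the structure of strongly closed 2-subgroups (`TRow`):
`AbIrr p G` for every nonabelian finite simple group, and S5325.  The Monster at `p = 13` uses S5325 for smaller groups.
-/

set_option autoImplicit false

namespace Cfsg.Agent.H800.AbAll

open Subgroup Cfsg Cfsg.Agent.H795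

universe u

/-- the classification -/
def Known : Prop := ∀ (G : Type u) [Group G] [Finite G] [IsSimpleGroup G], IsKnownSimple' G

/-- the `Z*_p`-theorem -/
def ZRow (p : ℕ) [Fact p.Prime] : Prop :=
  ∀ (G : Type u) [Group G] [Finite G] (S : Sylow p G), ∀ x ∈ (S : Subgroup G),
    (∀ g : G, g * x * g⁻¹ ∈ (S : Subgroup G) → g * x * g⁻¹ = x) → InZStar p x

/-- strongly closed 2-subgroups of the simple groups -/
def TRow : Prop := ∀ (G : Type u) [Group G] [Finite G] [IsSimpleGroup G], H794.TwoClosed.Concl G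

variable {p : ℕ} [hp : Fact p.Prime]

omit hp in
/-- strongly closed subgroups from `AbIrr` -/
theorem closed_of_abIrr {G : Type u} [Group G] (h : AbIrr p G) (S : Sylow p G)
    (hS : IsElementaryAbelian p (S : Subgroup G)) {B : Subgroup G} (hB : IsStronglyClosed B (S : Subgroup G)) :
    B = ⊥ ∨ B = (S : Subgroup G) := by
  rcases h S hS.1 B hB.1 (fun b hb => hS.2 b (hB.1 hb)) (fun n hn b hb => hB.2 b hb n
    ((mem_normalizer_iff.1 hn b).1 (hB.1 hb))) with h1 | h1
  · exact Or.inl h1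
  · exact Or.inr (le_antisymm hB.1 fun x hx => h1 x hx (hS.2 x hx))

/-- a perfect simple group is not abelian -/
theorem not_comm {G : Type u} [Group G] [IsSimpleGroup G] (h : commutator G = ⊤) : ¬ IsMulCommutative G := by
  intro hc
  have h1 : commutator G = ⊥ := by
    rw [_root_.commutator_def, Subgroup.commutator_eq_bot_iff_le_centralizer]
    intro x _
    rw [mem_centralizer_iff]
    intro y _
    exact hc.is_comm.comm y x
  rw [h1] at h
  obtain ⟨x, hx⟩ := exists_ne (1 : G)
  have h2 : x ∈ (⊥ : Subgroup G) := by rw [h]; exact mem_top x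
  exact hx (mem_bot.1 h2)

/-- **`AbIrr` except for the Monster at 13.** -/
theorem abIrr_of_ne (hK : Known.{u}) (hT : TRow.{u}) {G : Type u} [Group G] [Finite G] [IsSimpleGroup G]
    (hna : ¬ IsMulCommutative G) (hM : ¬ (p = 13 ∧ Spor.IsoM G)) : AbIrr p G := by
  by_cases hp2 : p = 2
  · subst hp2
    exact H794.TwoClosed.abIrr_two (hT G)
  · exact H334.ABRow.abIrr_odd hna (hK G) hp2 hM

/-- the order of the Monster -/
theorem card_of_isoM {G : Type u} [Group G] (h : Spor.IsoM G) : Nat.card G = Nat.card BpSpor.MBigModel.MG := by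
  obtain ⟨f⟩ := h
  obtain ⟨f'⟩ := Cfsg.Agent.MonsterP.Equiv.equiv
  exact Nat.card_congr (f.trans f').toEquiv

/-- **Groups of smaller order than the Monster.** -/
theorem strLt (hK : Known.{u}) (hT : TRow.{u}) (hZ : ZRow.{u} p) : MT.StrLt.{u} p (Nat.card BpSpor.MBigModel.MG) := by
  intro H _ _ hlt A hA B hB
  refine StrClosed.exists_normal_le (p := p) (Nat.card BpSpor.MBigModel.MG - 1) (fun G _ _ S _ => hZ G S) ?_ (by omega) A hA B hB
  intro G _ _ _ S hle hperf hS B hB
  refine closed_of_abIrr (abIrr_of_ne hK hT (not_comm hperf) ?_) S hS hB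
  rintro ⟨-, hM⟩
  have h1 := card_of_isoM hM
  have h2 : 0 < Nat.card BpSpor.MBigModel.MG := by rw [← h1]; exact Nat.card_pos
  omega

/-- **The Monster at 13.** -/
theorem abIrr_m (hK : Known.{0}) (hT : TRow.{0}) [Fact (Nat.Prime 13)] (hZ : ZRow.{0} 13) {G : Type u} [Group G]
    [Finite G] (h : Spor.IsoM G) : AbIrr 13 G := by
  obtain ⟨f⟩ := h
  obtain ⟨f'⟩ := Cfsg.Agent.MonsterP.Equiv.equiv
  exact (MT.Final.abIrr_model (strLt hK hT hZ)).of_mulEquiv (f.trans f').symm

/-- **`AbIrr` for all nonabelian simple groups.** -/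
theorem abIrr_all (hK : Known.{u}) (hT : TRow.{u}) (hK0 : Known.{0}) (hT0 : TRow.{0}) (hZ0 : ZRow.{0} p) {G : Type u}
    [Group G] [Finite G] [IsSimpleGroup G] (hna : ¬ IsMulCommutative G) : AbIrr p G := by
  by_cases hM : p = 13 ∧ Spor.IsoM G
  · obtain ⟨rfl, hM⟩ := hM
    exact abIrr_m hK0 hT0 hZ0 hM
  · exact abIrr_of_ne hK hT hna hM

/-- **Strongly closed subgroups of elementary abelian Sylow subgroups.** -/
theorem main (hK : Known.{u}) (hT : TRow.{u}) (hZ : ZRow.{u} p) (hK0 : Known.{0}) (hT0 : TRow.{0}) (hZ0 : ZRow.{0} p)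
    {G : Type u} [Group G] [Finite G] (A : Sylow p G) (hA : IsElementaryAbelian p (A : Subgroup G)) {B : Subgroup G}
    (hB : IsStronglyClosed B (A : Subgroup G)) : ∃ N : Subgroup G, N.Normal ∧ N ⊓ (A : Subgroup G) = B :=
  StrClosed.exists_normal_le (p := p) (Nat.card G) (fun G _ _ S _ => hZ G S)
    (fun _ _ _ _ S _ hperf hS _ hB => closed_of_abIrr (abIrr_all hK hT hK0 hT0 hZ0 (not_comm hperf)) S hS hB) le_rfl A hA
    B hB

/-- **The form of statement S5325.** -/
theorem main_index (hK : Known.{u}) (hT : TRow.{u}) (hZ : ZRow.{u} p) (hK0 : Known.{0}) (hT0 : TRow.{0})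
    (hZ0 : ZRow.{0} p) {G : Type u} [Group G] [Finite G] (A : Sylow p G)
    (hA : IsElementaryAbelian p (A : Subgroup G)) (B : Subgroup G) (hB : IsStronglyClosed B (A : Subgroup G)) :
    ∃ N : Subgroup G, N.Normal ∧ B ≤ N ∧ ¬ p ∣ B.relIndex N :=
  StrClosed.exists_normal (fun G _ _ S _ => hZ G S)
    (fun _ _ _ _ S hperf hS _ hB => closed_of_abIrr (abIrr_all hK hT hK0 hT0 hZ0 (not_comm hperf)) S hS hB) A hA B hB

end Cfsg.Agent.H800.AbAll
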