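import Cfsg.Prelude.Def_FusionSystem
import Cfsg.Agent.H800.Marks

/-!
# Every fusion system on a finite group is realized inside a finite group (Park)

`Cfsg.Agent.H800.Realize.exists_realization`: for every fusion system `F` over a finite subgroup `S` there are
a finite group `G` and an injective homomorphism `ι : S →* G` with `F.IsRealizedBy ι`. The group `G` is the
centralizer of the right action of `S` in the symmetric group of a finite `S`-`S`-biset whose point stabilizers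
are graphs of maps of `F` and whose marks depend on the order only (`Marks.exists_action`).
-/

set_option autoImplicit false

universe u

namespace Cfsg.Agent.H800.Realize

open Cfsg Marks

variable {Ω : Type u} [Group Ω] {S : Subgroup Ω} (F : FusionSystem S)

/-- Composition of two maps of the system where it is defined. -/
theorem comp_partial {Q P : Subgroup Ω} {χ : Q →* Ω} {φ : P →* Ω} (hχ : χ ∈ F.Hom Q) (hφ : φ ∈ F.Hom P) :
    ∃ (Q' : Subgroup Ω) (χ' : Q' →* Ω), χ' ∈ F.Hom Q' ∧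
      ∀ (b : Ω) (h : b ∈ Q) (h2 : χ ⟨b, h⟩ ∈ P), ∃ h' : b ∈ Q', χ' ⟨b, h'⟩ = φ ⟨χ ⟨b, h⟩, h2⟩ := by
  let Q' : Subgroup Ω := (P.comap χ).map Q.subtype
  have hQ'Q : Q' ≤ Q := by
    rintro _ ⟨x, -, rfl⟩
    exact x.2
  have hQS : Q ≤ S := (F.le_of_mem hχ).1
  have h1 : ∀ x : Q', conjHom Q' 1 x ∈ Q := by
    intro x
    show 1 * (x : Ω) * 1⁻¹ ∈ Q
    simpa using hQ'Q x.2
  have hχ₀ := F.comp_mem (F.conj_mem (P := Q') (g := 1) (hQ'Q.trans hQS) (one_mem S)) hχ h1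
  have h2 : ∀ x : Q', (χ.comp ((conjHom Q' 1).codRestrict Q h1)) x ∈ P := by
    rintro ⟨_, x, hx, rfl⟩
    have hx' : χ x ∈ P := hx
    convert hx' using 1
    show χ ⟨1 * (x : Ω) * 1⁻¹, _⟩ = χ x
    congr 1
    ext
    simp
  refine ⟨Q', _, F.comp_mem hχ₀ hφ h2, ?_⟩
  intro b h hP
  refine ⟨⟨⟨b, h⟩, hP, rfl⟩, ?_⟩
  show φ ⟨χ ⟨1 * b * 1⁻¹, _⟩, _⟩ = φ ⟨χ ⟨b, h⟩, hP⟩
  congr 1
  ext
  show χ ⟨1 * b * 1⁻¹, _⟩ = χ ⟨b, h⟩
  congr 1
  ext
  simp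

/-- The subgroups of `S × S` contained in the graph `{(χ b, b)}` of a map `χ` of the system. -/
def graphs : Set (Subgroup (S × S)) :=
  {D | ∃ (Q : Subgroup Ω) (χ : Q →* Ω), χ ∈ F.Hom Q ∧
    ∀ d ∈ D, ∃ h : ((d.2 : S) : Ω) ∈ Q, ((d.1 : S) : Ω) = χ ⟨d.2, h⟩}

theorem graphs_conj : ∀ D ∈ graphs F, ∀ g : S × S, cj g D ∈ graphs F := by
  rintro D ⟨Q, χ, hχ, hD⟩ ⟨a, b⟩
  have ha : conjHom S (a : Ω) ∈ F.Hom S := F.conj_mem le_rfl a.2
  have hb : conjHom S ((b : Ω)⁻¹) ∈ F.Hom S := F.conj_mem le_rfl (S.inv_mem b.2)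
  obtain ⟨Q₁, χ₁, hχ₁, h₁⟩ := comp_partial F hb hχ
  obtain ⟨Q₂, χ₂, hχ₂, h₂⟩ := comp_partial F hχ₁ ha
  refine ⟨Q₂, χ₂, hχ₂, ?_⟩
  rintro ⟨x, y⟩ hd
  rw [mem_cj] at hd
  obtain ⟨hQ, he⟩ := hD _ hd
  have hQ' : (b : Ω)⁻¹ * (y : Ω) * (b : Ω) ∈ Q := hQ
  have he' : (a : Ω)⁻¹ * (x : Ω) * (a : Ω) = χ ⟨(b : Ω)⁻¹ * (y : Ω) * (b : Ω), hQ'⟩ := he
  have hc : conjHom S ((b : Ω)⁻¹) ⟨(y : Ω), y.2⟩ = (b : Ω)⁻¹ * (y : Ω) * (b : Ω) := by
    show (b : Ω)⁻¹ * (y : Ω) * (b : Ω)⁻¹⁻¹ = _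
    rw [inv_inv]
  obtain ⟨hy₁, hv₁⟩ := h₁ (y : Ω) y.2 (by rw [hc]; exact hQ')
  have hv₁' : χ₁ ⟨(y : Ω), hy₁⟩ = (a : Ω)⁻¹ * (x : Ω) * (a : Ω) := by
    rw [hv₁, he']
    congr 1
    ext
    exact hc
  have hxS : (a : Ω)⁻¹ * (x : Ω) * (a : Ω) ∈ S := S.mul_mem (S.mul_mem (S.inv_mem a.2) x.2) a.2
  obtain ⟨hy₂, hv₂⟩ := h₂ (y : Ω) hy₁ (by rw [hv₁']; exact hxS)
  refine ⟨hy₂, ?_⟩
  show (x : Ω) = χ₂ ⟨(y : Ω), hy₂⟩
  rw [hv₂]
  show (x : Ω) = (a : Ω) * (χ₁ ⟨(y : Ω), hy₁⟩) * (a : Ω)⁻¹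
  rw [hv₁']
  group

theorem graphs_sub {D E : Subgroup (S × S)} (hD : D ∈ graphs F) (h : E ≤ D) : E ∈ graphs F := by
  obtain ⟨Q, χ, hχ, h1⟩ := hD
  exact ⟨Q, χ, hχ, fun d hd => h1 d (h hd)⟩

/-- The homomorphism `P × S → S × S`, `(x, b) ↦ (φ x, b)`. -/
def twist {P : Subgroup Ω} (φ : P →* Ω) (hφ : ∀ x : P, φ x ∈ S) : P × S →* S × S :=
  (φ.codRestrict S hφ).prodMap (MonoidHom.id S)

theorem twist_apply {P : Subgroup Ω} (φ : P →* Ω) (hφ : ∀ x : P, φ x ∈ S) (x : P) (b : S) :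
    twist φ hφ (x, b) = (⟨φ x, hφ x⟩, b) := rfl

theorem twist_injective {P : Subgroup Ω} {φ : P →* Ω} (hφ : φ ∈ F.Hom P) :
    Function.Injective (twist φ (F.le_of_mem hφ).2) := by
  rintro ⟨x, b⟩ ⟨y, c⟩ h
  rw [twist_apply, twist_apply] at h
  simp only [Prod.mk.injEq, Subtype.mk.injEq] at h
  rw [F.injective_of_mem hφ h.1, h.2]

theorem map_twist_mem {P : Subgroup Ω} {φ ψ : P →* Ω} (hφ : φ ∈ F.Hom P) (hψ : ψ ∈ F.Hom P)
    (E : Subgroup (P × S)) (hE : E.map (twist φ (F.le_of_mem hφ).2) ∈ graphs F) :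
    E.map (twist ψ (F.le_of_mem hψ).2) ∈ graphs F := by
  obtain ⟨Q, χ, hχ, h1⟩ := hE
  obtain ⟨θ, hθ, hθφ⟩ := F.inv_mem hφ
  obtain ⟨Q₁, χ₁, hχ₁, h₁⟩ := comp_partial F hχ hθ
  obtain ⟨Q₂, χ₂, hχ₂, h₂⟩ := comp_partial F hχ₁ hψ
  refine ⟨Q₂, χ₂, hχ₂, ?_⟩
  rintro _ ⟨⟨x, b⟩, hxb, rfl⟩
  obtain ⟨hbQ, hv⟩ := h1 _ ⟨(x, b), hxb, rfl⟩
  have hbQ' : (b : Ω) ∈ Q := hbQ
  have hv' : φ x = χ ⟨(b : Ω), hbQ'⟩ := hv
  obtain ⟨hb₁, hv₁⟩ := h₁ (b : Ω) hbQ' (by rw [← hv']; exact ⟨x, rfl⟩)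
  have hv₁' : χ₁ ⟨(b : Ω), hb₁⟩ = (x : Ω) := by
    rw [hv₁, ← hθφ x]
    congr 1
    ext
    exact hv'.symm
  obtain ⟨hb₂, hv₂⟩ := h₂ (b : Ω) hb₁ (by rw [hv₁']; exact x.2)
  refine ⟨hb₂, ?_⟩
  show ψ x = χ₂ ⟨(b : Ω), hb₂⟩
  rw [hv₂]
  congr 1
  ext
  exact hv₁'.symm

/-- **Every fusion system over a finite group is realized inside a finite group** (Park). -/
theorem exists_realization [Finite S] :
    ∃ (G : Type u) (_ : Group G) (_ : Finite G) (ι : ↥S →* G), F.IsRealizedBy ι := by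
  classical
  obtain ⟨X, hX, ρ, f, hst, hf, hcard⟩ := exists_action (G := S × S) (graphs F) (graphs_conj F)
  let C : Subgroup (Equiv.Perm X) := Subgroup.centralizer (Set.range fun b : S => ρ (1, b))
  have hC : ∀ a : S, ρ (a, 1) ∈ C := by
    intro a
    rw [Subgroup.mem_centralizer_iff]
    rintro _ ⟨b, rfl⟩
    show ρ (1, b) * ρ (a, 1) = ρ (a, 1) * ρ (1, b)
    rw [← map_mul, ← map_mul, Prod.mk_mul_mk, Prod.mk_mul_mk]
    simp only [one_mul, mul_one]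
  let ι : S →* C := (ρ.comp (MonoidHom.inl S S)).codRestrict C hC
  have hι : ∀ a : S, ((ι a : C) : Equiv.Perm X) = ρ (a, 1) := fun a => rfl
  -- the base point
  let Δ : Subgroup (S × S) := (MonoidHom.prod (MonoidHom.id S) (MonoidHom.id S)).range
  have hΔ : Δ ∈ graphs F := by
    refine ⟨S, conjHom S 1, F.conj_mem le_rfl (one_mem S), ?_⟩
    rintro _ ⟨a, rfl⟩
    refine ⟨a.2, ?_⟩
    show (a : Ω) = 1 * (a : Ω) * 1⁻¹
    simp
  obtain ⟨⟨x₀, hx₀⟩⟩ : Nonempty {x : X // ∀ e ∈ Δ, ρ e x = x} := by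
    have h1 := hcard Δ hΔ
    have h2 := hf (Nat.card Δ)
    rw [← h1] at h2
    exact (Nat.card_pos_iff.1 h2).1
  refine ⟨C, inferInstance, inferInstance, ι, ?_, ?_⟩
  · rw [injective_iff_map_eq_one]
    intro a ha
    have h1 : ρ (a, 1) = 1 := by
      rw [← hι, ha]; rfl
    obtain ⟨Q, χ, hχ, h2⟩ := hst x₀
    obtain ⟨h3, h4⟩ := h2 (a, 1) (by
      rw [mem_stab, h1]; rfl)
    have h5 : (a : Ω) = χ 1 := h4
    rw [map_one] at h5
    exact Subtype.ext h5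
  · intro P hP φ hφ
    constructor
    · intro hφF
      have hid : conjHom P 1 ∈ F.Hom P := F.conj_mem hP (one_mem S)
      have hidv : ∀ x : P, conjHom P 1 x = (x : Ω) := by
        intro x
        show 1 * (x : Ω) * 1⁻¹ = x
        simp
      have key : ∀ E : Subgroup (P × S),
          Nat.card {x : X // ∀ e ∈ E, (ρ.comp (twist _ (F.le_of_mem hid).2)) e x = x} =
          Nat.card {x : X // ∀ e ∈ E, (ρ.comp (twist _ (F.le_of_mem hφF).2)) e x = x} := by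
        intro E
        have haux : ∀ (ψ : P →* Ω) (hψ : ψ ∈ F.Hom P),
            Nat.card {x : X // ∀ e ∈ E, (ρ.comp (twist _ (F.le_of_mem hψ).2)) e x = x} =
            if E.map (twist ψ (F.le_of_mem hψ).2) ∈ graphs F then f (Nat.card E) else 0 := by
          intro ψ hψ
          have h1 : Nat.card {x : X // ∀ e ∈ E, (ρ.comp (twist _ (F.le_of_mem hψ).2)) e x = x} =
              Nat.card {x : X // ∀ e ∈ E.map (twist ψ (F.le_of_mem hψ).2), ρ e x = x} := by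
            refine Nat.card_congr (Equiv.subtypeEquivRight fun x => ?_)
            constructor
            · rintro h _ ⟨e, he, rfl⟩
              exact h e he
            · intro h e he
              exact h _ ⟨e, he, rfl⟩
          rw [h1]
          split_ifs with h2
          · rw [hcard _ h2]
            congr 1
            exact Nat.card_congr (E.equivMapOfInjective _ (twist_injective F hψ)).symm.toEquiv
          · rw [Finite.card_eq_zero_iff]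
            refine ⟨fun x => h2 ?_⟩
            exact graphs_sub F (hst x.1) fun e he => x.2 e he
        rw [haux _ hid, haux _ hφF]
        have h3 : E.map (twist _ (F.le_of_mem hid).2) ∈ graphs F ↔
            E.map (twist φ (F.le_of_mem hφF).2) ∈ graphs F :=
          ⟨map_twist_mem F hid hφF E, map_twist_mem F hφF hid E⟩
        simp only [h3]
      have : Finite P := Finite.of_injective (Subgroup.inclusion hP) (Subgroup.inclusion_injective hP)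
      obtain ⟨g, hg⟩ := exists_equiv _ _ key
      have hgC : (g : Equiv.Perm X) ∈ C := by
        rw [Subgroup.mem_centralizer_iff]
        rintro _ ⟨b, rfl⟩
        show ρ (1, b) * (g : Equiv.Perm X) = (g : Equiv.Perm X) * ρ (1, b)
        ext x
        have h1 := hg (1, b) x
        rw [MonoidHom.comp_apply, MonoidHom.comp_apply, twist_apply, twist_apply] at h1
        have h2 : (⟨conjHom P 1 1, (F.le_of_mem hid).2 1⟩ : S) = 1 := Subtype.ext (map_one _)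
        have h3 : (⟨φ 1, (F.le_of_mem hφF).2 1⟩ : S) = 1 := Subtype.ext (map_one _)
        rw [h2, h3] at h1
        rw [Equiv.Perm.mul_apply, Equiv.Perm.mul_apply]
        exact h1.symm
      refine ⟨⟨g, hgC⟩, fun x => ?_⟩
      apply Subtype.ext
      show ρ (⟨φ x, hφ x⟩, 1) = (g : Equiv.Perm X) * ρ (⟨x, hP x.2⟩, 1) * (g : Equiv.Perm X)⁻¹
      rw [eq_mul_inv_iff_mul_eq]
      ext z
      have h1 := hg (x, 1) z
      rw [MonoidHom.comp_apply, MonoidHom.comp_apply, twist_apply, twist_apply] at h1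
      have h2 : (⟨conjHom P 1 x, (F.le_of_mem hid).2 x⟩ : S) = ⟨x, hP x.2⟩ := Subtype.ext (hidv x)
      rw [h2] at h1
      rw [Equiv.Perm.mul_apply, Equiv.Perm.mul_apply]
      exact h1.symm
    · rintro ⟨⟨g, hgC⟩, hg⟩
      have hg' : ∀ x : P, ρ (⟨φ x, hφ x⟩, 1) * g = g * ρ (⟨x, hP x.2⟩, 1) := by
        intro x
        have h1 := congrArg (fun c : C => (c : Equiv.Perm X)) (hg x)
        have h2 : ρ (⟨φ x, hφ x⟩, 1) = g * ρ (⟨x, hP x.2⟩, 1) * g⁻¹ := h1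
        rw [h2]
        group
      obtain ⟨Q, χ, hχ, h2⟩ := hst (g x₀)
      have h3 : ∀ x : P, ∃ h : (x : Ω) ∈ Q, φ x = χ ⟨x, h⟩ := by
        intro x
        refine h2 (⟨φ x, hφ x⟩, ⟨x, hP x.2⟩) ?_
        rw [mem_stab]
        have h4 : ((⟨φ x, hφ x⟩, ⟨x, hP x.2⟩) : S × S) = (1, ⟨x, hP x.2⟩) * (⟨φ x, hφ x⟩, 1) := by
          rw [Prod.mk_mul_mk, one_mul, mul_one]
        rw [h4, map_mul, Equiv.Perm.mul_apply]
        have h5 : ρ (⟨φ x, hφ x⟩, 1) (g x₀) = g (ρ (⟨x, hP x.2⟩, 1) x₀) := by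
          have := congrArg (fun c : Equiv.Perm X => c x₀) (hg' x)
          exact this
        rw [h5]
        rw [Subgroup.mem_centralizer_iff] at hgC
        have h6 : ρ (1, ⟨x, hP x.2⟩) (g (ρ (⟨x, hP x.2⟩, 1) x₀)) =
            g (ρ (1, ⟨x, hP x.2⟩) (ρ (⟨x, hP x.2⟩, 1) x₀)) := by
          have := congrArg (fun c : Equiv.Perm X => c (ρ (⟨x, hP x.2⟩, 1) x₀))
            (hgC (ρ (1, ⟨x, hP x.2⟩)) ⟨_, rfl⟩)
          exact this
        rw [h6]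
        congr 1
        have h7 : ρ (1, ⟨x, hP x.2⟩) (ρ (⟨x, hP x.2⟩, 1) x₀) = ρ (⟨x, hP x.2⟩, ⟨x, hP x.2⟩) x₀ := by
          rw [← Equiv.Perm.mul_apply, ← map_mul, Prod.mk_mul_mk, one_mul, mul_one]
        rw [h7]
        exact hx₀ _ ⟨⟨x, hP x.2⟩, rfl⟩
      have hPQ : P ≤ Q := fun x hx => (h3 ⟨x, hx⟩).1
      have h1 : ∀ x : P, conjHom P 1 x ∈ Q := by
        intro x
        show 1 * (x : Ω) * 1⁻¹ ∈ Q
        simpa using hPQ x.2
      have h4 := F.comp_mem (F.conj_mem hP (one_mem S)) hχ h1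
      convert h4 using 1
      ext x
      obtain ⟨h5, h6⟩ := h3 x
      rw [h6]
      show χ ⟨x, h5⟩ = χ ⟨1 * (x : Ω) * 1⁻¹, _⟩
      congr 1
      ext
      simp

end Cfsg.Agent.H800.Realize
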